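import Cfsg.Agent.Lib.Transfer.SquareFree.Counting
import Cfsg.Agent.Lib.Transfer.Cores
import Cfsg.Agent.Lib.Grp.SupersolvableCriteria
import Cfsg.Agent.Lib.Grp.Solvable
import Cfsg.Agent.S0526

/-!
Groups with square-free class sizes (Chillag–Herzog): solvable, supersolvable, and the
derived subgroup is cyclic of square-free order.
-/
set_option autoImplicit false
set_option linter.style.haveILetI false

open scoped commutatorElement Pointwise

namespace Cfsg.Agent.Transfer.SquareFree

open Cfsg Subgroup

universe u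

/-- A `p`-group for the smallest prime with elementary abelian Sylow subgroups and `p²` dividing no class
size of a `p'`-element has a normal `p`-complement. -/
theorem hasNormalPComplement_of_elementary : ∀ (n : ℕ) {G : Type u} [Group G] [Finite G] {p : ℕ}
    [Fact p.Prime], Nat.card G = n → (∀ r : ℕ, r.Prime → r ∣ Nat.card G → p ≤ r) → ∀ P : Sylow p G,
    (∀ a ∈ (P : Subgroup G), ∀ b ∈ (P : Subgroup G), a * b = b * a) →
    (∀ a ∈ (P : Subgroup G), a ^ p = 1) →
    (∀ y : G, (orderOf y).Coprime p → ¬ p ^ 2 ∣ (centralizer ({y} : Set G)).index) →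
    HasNormalPComplement p G := by
  intro n
  induction n using Nat.strong_induction_on with
  | _ n ih =>
  intro G _ _ p hp hn hmin P hab hexp hy
  have hP : IsMulCommutative (P : Subgroup G) := ⟨⟨fun a b => Subtype.ext (hab a a.2 b b.2)⟩⟩
  by_cases hz : ∃ z ∈ (P : Subgroup G), z ≠ 1 ∧ z ∈ center G
  · obtain ⟨z, hzP, hz1, hzc⟩ := hz
    set K := zpowers z with hK
    have hKc : K ≤ center G := zpowers_le.2 hzc
    haveI : K.Normal := ⟨fun a ha c => by
      rw [mem_center_iff.1 (hKc ha) c, mul_inv_cancel_right]
      exact ha⟩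
    set f := QuotientGroup.mk' K with hf
    have hfs : Function.Surjective f := QuotientGroup.mk'_surjective K
    have hlt : Nat.card (G ⧸ K) < n := hn ▸ Grp.card_quotient_lt (by rw [hK, ne_eq, zpowers_eq_bot]; exact hz1)
    have hquo : HasNormalPComplement p (G ⧸ K) := by
      refine ih _ hlt rfl (fun r hr hd => hmin r hr (hd.trans (card_quotient_dvd_card K)))
        (P.mapSurjective hfs) ?_ ?_ ?_
      · rintro _ ⟨a, ha, rfl⟩ _ ⟨b, hb, rfl⟩
        rw [← map_mul, ← map_mul, hab a ha b hb]
      · rintro _ ⟨a, ha, rfl⟩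
        rw [← map_pow, hexp a ha, map_one]
      · intro y hyp
        obtain ⟨g, rfl⟩ := hfs y
        obtain ⟨a, b, ha, -, ⟨k, hk⟩, hb, hg⟩ := exists_p_decomp (p := p) g
        have hfa : f a = 1 := by
          have h1 : orderOf (f a) ∣ orderOf (f g) :=
            orderOf_dvd_of_mem_zpowers (by
              obtain ⟨i, hi⟩ := ha
              exact ⟨i, by rw [← hi]; exact (map_zpow f g i).symm⟩)
          rw [← orderOf_eq_one_iff]
          exact Nat.eq_one_of_dvd_coprimes (hyp.pow_right k) h1 (hk ▸ orderOf_map_dvd f a)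
        have hfg : f g = f b := by rw [hg, map_mul, hfa, one_mul]
        rw [hfg]
        exact fun hd => hy b hb (hd.trans (index_centralizer_map_dvd f hfs b))
    refine hasNormalPComplement_of_prime_elements P hP fun r hr hrp g hgN hg x hx => ?_
    have hgp : (orderOf g).Coprime p := by
      obtain ⟨k, hk⟩ := hg
      rw [hk]
      exact ((Nat.coprime_primes hr hp.out).2 hrp).pow_left k
    have h1 : f g * f x * (f g)⁻¹ = f x := by
      refine commute_of_complement (P.mapSurjective hfs) hquo
        (hgp.coprime_dvd_left (orderOf_map_dvd f g)) ?_ ⟨x, hx, rfl⟩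
      exact (P : Subgroup G).le_normalizer_map f (mem_map_of_mem f hgN)
    have hk : g * x * g⁻¹ * x⁻¹ ∈ K := by
      rw [← QuotientGroup.eq_one_iff]
      show f _ = 1
      rw [map_mul, map_mul, map_mul, map_inv, map_inv, h1, mul_inv_cancel]
    exact conj_eq_self_of_step P.isPGroup' hgp (zpowers_le.2 hzP hk)
      (mem_center_iff.1 (hKc hk) g)
  push Not at hz
  by_cases hcard : p ^ 2 ∣ Nat.card (P : Subgroup G)
  swap
  · refine hasNormalPComplement_of_prime_elements P hP fun r hr hrp g hgN hg x hx => ?_
    haveI := Fact.mk hr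
    by_cases hrG : r ∣ Nat.card G
    · obtain ⟨k, hk⟩ := hg
      refine conj_eq_self_of_counting (P : Subgroup G) hgN hk (fun d hd hne => ?_) x hx
      obtain ⟨a, ha⟩ := IsPGroup.iff_card.1 P.isPGroup'
      rw [ha] at hd hne hcard ⊢
      obtain ⟨j, hj, rfl⟩ := (Nat.dvd_prime_pow hp.out).1 hd
      have ha1 : a ≤ 1 := by
        by_contra h; exact hcard (pow_dvd_pow p (by omega))
      obtain rfl : a = 1 := by
        rcases Nat.eq_zero_or_pos a with rfl | h
        · exact absurd (by rw [Nat.le_zero.1 hj]) hne
        · omega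
      have hj0 : j = 0 := by
        by_contra h
        exact hne (by rw [show j = 1 by omega])
      subst hj0
      rw [pow_one, pow_zero]
      intro hmod
      have h2 := (Nat.modEq_iff_dvd' hp.out.one_lt.le).1 hmod.symm
      have h3 := Nat.le_of_dvd (by have := hp.out.two_le; omega) h2
      have := hmin r hr hrG
      omega
    · obtain ⟨k, hk⟩ := hg
      have h1 := orderOf_dvd_natCard g
      rw [hk] at h1
      rcases Nat.eq_zero_or_pos k with rfl | h
      · rw [pow_zero, orderOf_eq_one_iff] at hk
        subst hk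
        simp
      · exact absurd ((dvd_pow_self r h.ne').trans h1) hrG
  refine hasNormalPComplement_of_centralizers P hab (fun y hyp => ?_) (fun z hzP hz1 => ?_)
  · have hd : p ∣ Nat.card (centralizer ({y} : Set G)) := by
      by_contra hd
      refine hy y hyp ?_
      have h1 : p ^ 2 ∣ Nat.card (centralizer ({y} : Set G)) * (centralizer ({y} : Set G)).index := by
        rw [card_mul_index]
        exact hcard.trans (card_subgroup_dvd_card _)
      exact (((hp.out.coprime_iff_not_dvd).2 hd).pow_left 2).dvd_of_dvd_mul_left h1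
    obtain ⟨z, hz⟩ := exists_prime_orderOf_dvd_card' (G := centralizer ({y} : Set G)) p hd
    refine ⟨z, fun h1 => ?_, ⟨1, by rw [orderOf_coe, hz, pow_one]⟩, mem_centralizer_single.1 z.2⟩
    rw [← orderOf_eq_one_iff, orderOf_coe, hz] at h1
    exact hp.out.ne_one h1
  set C := centralizer ({z} : Set G) with hCdef
  have hPC : (P : Subgroup G) ≤ C := fun a ha => mem_centralizer_single.2 (hab a ha z hzP)
  have hne : C ≠ ⊤ := by
    intro h
    refine hz z hzP hz1 (mem_center_iff.2 fun g => ?_)
    have hg : g ∈ C := h ▸ mem_top g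
    exact mem_centralizer_single.1 hg
  refine ih _ (hn ▸ Grp.card_lt_of_ne_top hne) rfl
    (fun r hr hd => hmin r hr (hd.trans (card_subgroup_dvd_card C))) (P.subtype hPC) ?_ ?_ ?_
  · intro a ha b hb
    exact Subtype.ext (hab a ha b hb)
  · intro a ha
    exact Subtype.ext (hexp a ha)
  · intro y hyp
    set D := centralizer ({(y : G)} : Set G) with hD
    have hzD : z ∈ D := mem_centralizer_single.2 (mem_centralizer_single.1 y.2).symm
    have hzp : IsPGroup p (zpowers (⟨z, hzD⟩ : D)) := by
      refine IsPGroup.of_card_dvd_pow (n := 1) ?_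
      rw [Nat.card_zpowers, orderOf_mk, pow_one]
      exact orderOf_dvd_of_pow_eq_one (hexp z hzP)
    obtain ⟨T, hT⟩ := hzp.exists_le_sylow
    set T' := (T : Subgroup D).map D.subtype with hT'
    obtain ⟨Q, hQ⟩ := (T.isPGroup'.map D.subtype : IsPGroup p T').exists_le_sylow
    obtain ⟨c, hc⟩ := MulAction.exists_smul_eq G P Q
    have hTC : T' ≤ C := by
      intro t ht
      have h1 : t ∈ (Q : Subgroup G) := hQ ht
      have h2 : z ∈ (Q : Subgroup G) := hQ ⟨_, hT (mem_zpowers _), rfl⟩
      rw [← hc, Sylow.coe_subgroup_smul, Grp.mem_smul_conj] at h1 h2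
      refine mem_centralizer_single.2 ?_
      calc t * z = c * ((c⁻¹ * t * c) * (c⁻¹ * z * c)) * c⁻¹ := by group
        _ = c * ((c⁻¹ * z * c) * (c⁻¹ * t * c)) * c⁻¹ := by rw [hab _ h1 _ h2]
        _ = z * t := by group
    intro hd
    have h3 : centralizer ({y} : Set C) = D.subgroupOf C := by
      ext n
      rw [mem_subgroupOf, mem_centralizer_single, mem_centralizer_single, Subtype.ext_iff]
      rfl
    rw [h3] at hd
    have h4 : p ^ 2 ∣ T'.index :=
      (hd.trans (relIndex_dvd_of_le_left C (map_subtype_le _ : T' ≤ D))).trans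
        (relIndex_dvd_index_of_le hTC)
    rw [hT', index_map_subtype] at h4
    exact hy y (by rwa [orderOf_coe])
      ((((hp.out.coprime_iff_not_dvd).2 T.not_dvd_index).pow_left 2).dvd_of_dvd_mul_left h4)

variable {G : Type u} [Group G]

/-- All class sizes square-free. -/
def SFClasses (G : Type*) [Group G] : Prop :=
  ∀ x : G, Squarefree (centralizer ({x} : Set G)).index

theorem SFClasses.not_sq_dvd (h : SFClasses G) {p : ℕ} (hp : p.Prime) (x : G) :
    ¬ p ^ 2 ∣ (centralizer ({x} : Set G)).index := fun hd =>
  hp.ne_one (Nat.isUnit_iff.1 (h x p (by rwa [← pow_two])))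

theorem SFClasses.quotient (h : SFClasses G) (K : Subgroup G) [K.Normal] : SFClasses (G ⧸ K) := by
  intro y
  obtain ⟨g, rfl⟩ := QuotientGroup.mk'_surjective K y
  exact (h g).squarefree_of_dvd (index_centralizer_map_dvd _ (QuotientGroup.mk'_surjective K) g)

theorem SFClasses.normal [Finite G] (h : SFClasses G) (N : Subgroup G) [N.Normal] : SFClasses N :=
  fun x => (h x).squarefree_of_dvd (index_centralizer_subtype_dvd N x)

theorem SFClasses.isSolvable : ∀ (n : ℕ) {G : Type u} [Group G] [Finite G], Nat.card G = n →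
    SFClasses G → Group.IsSolvable G := by
  intro n
  induction n using Nat.strong_induction_on with
  | _ n ih =>
  intro G _ _ hn h
  by_cases h1 : Nat.card G = 1
  · haveI := (Nat.card_eq_one_iff_unique.1 h1).1
    infer_instance
  by_cases hc : center G = ⊥
  swap
  · have hq := ih _ (hn ▸ Grp.card_quotient_lt hc) rfl (h.quotient (center G))
    letI : CommGroup (center G) :=
      { (inferInstance : Group (center G)) with mul_comm := mul_comm' }
    haveI : Group.IsSolvable (center G) := inferInstance
    exact Group.isSolvable_of_ker_le_range (center G).subtype (QuotientGroup.mk' (center G))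
      (by rw [QuotientGroup.ker_mk', range_subtype])
  set p := (Nat.card G).minFac
  haveI hp : Fact p.Prime := ⟨Nat.minFac_prime h1⟩
  obtain ⟨P⟩ : Nonempty (Sylow p G) := inferInstance
  have hpc := fun {a b : G} (ha : a ∈ (P : Subgroup G)) (hb : b ∈ (P : Subgroup G)) =>
    pow_comm_mem_center (h.not_sq_dvd hp.out) P ha hb
  have hN := hasNormalPComplement_of_elementary (Nat.card G) rfl
    (fun r hr hd => Nat.minFac_le_of_dvd hr.two_le hd) P
    (fun a ha b hb => by
      have := (hpc ha hb).2
      rw [hc, mem_bot, commutatorElement_eq_one_iff_mul_comm] at this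
      exact this)
    (fun a ha => by
      have := (hpc ha ha).1
      rwa [hc, mem_bot] at this)
    (fun y _ => h.not_sq_dvd hp.out y)
  obtain ⟨N, hNn, hd, k, hk⟩ := hasNormalPComplement_iff_exists.1 hN
  haveI := hNn
  have hne : N ≠ ⊤ := fun e => hd (by rw [e, card_top]; exact Nat.minFac_dvd _)
  have hNs := ih _ (hn ▸ Grp.card_lt_of_ne_top hne) rfl (h.normal N)
  haveI : Group.IsNilpotent (G ⧸ N) :=
    (IsPGroup.of_card (p := p) (n := k) (by rw [← index_eq_card, hk])).isNilpotent
  haveI : Group.IsSolvable (G ⧸ N) := IsNilpotent.to_isSolvable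
  exact Group.isSolvable_of_ker_le_range N.subtype (QuotientGroup.mk' N)
    (by rw [QuotientGroup.ker_mk', range_subtype])

end Cfsg.Agent.Transfer.SquareFree
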