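import Cfsg.Agent.Lib.Transfer.NormalComplement
import Cfsg.Agent.Lib.Transfer.Abelian
import Cfsg.Agent.Lib.Grp.Basic
import Cfsg.Agent.Lib.Grp.Real

/-!
Class sizes not divisible by the square of a prime: the Frattini-type elements of a Sylow subgroup are central,
and a counting argument gives a normal complement for the smallest prime.
-/
set_option autoImplicit false
set_option linter.style.haveILetI false

open scoped commutatorElement Pointwise

namespace Cfsg.Agent.Transfer.SquareFree

open Cfsg Subgroup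

variable {G : Type*} [Group G]

theorem mem_centralizer_single {x g : G} :
    g ∈ centralizer ({x} : Set G) ↔ g * x = x * g :=
  mem_centralizer_singleton_iff

/-- The class size of an image divides the class size. -/
theorem index_centralizer_map_dvd {H : Type*} [Group H] (f : G →* H) (hf : Function.Surjective f)
    (x : G) :
    (centralizer ({f x} : Set H)).index ∣ (centralizer ({x} : Set G)).index := by
  have hle : (centralizer ({x} : Set G)).map f ≤ centralizer ({f x} : Set H) := by
    rintro _ ⟨g, hg, rfl⟩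
    rw [mem_centralizer_single, ← map_mul, mem_centralizer_single.1 hg, map_mul]
  exact (index_dvd_of_le hle).trans (index_map_dvd _ hf)

/-- The class size in a normal subgroup divides the class size. -/
theorem index_centralizer_subtype_dvd [Finite G] (N : Subgroup G) [N.Normal] (x : N) :
    (centralizer ({x} : Set N)).index ∣ (centralizer ({(x : G)} : Set G)).index := by
  set C := centralizer ({(x : G)} : Set G) with hC
  have h0 : centralizer ({x} : Set N) = C.subgroupOf N := by
    ext n
    rw [mem_subgroupOf, mem_centralizer_single, mem_centralizer_single, Subtype.ext_iff]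
    rfl
  rw [h0]
  show C.relIndex N ∣ C.index
  have h1 := Grp.card_sup_mul_card_inf_normal (H := C) (N := N)
  have h2 := Grp.card_mul_relIndex (le_sup_left : C ≤ C ⊔ N)
  have h3 := Grp.relIndex_mul_card_inf N C
  have h4 : C.relIndex (C ⊔ N) = C.relIndex N := by
    rw [inf_comm] at h3
    rw [← h2, ← h3, mul_assoc] at h1
    have h5 : C.relIndex (C ⊔ N) * Nat.card ↥(C ⊓ N) = Nat.card ↥(C ⊓ N) * C.relIndex N :=
      Nat.eq_of_mul_eq_mul_left Nat.card_pos h1
    rw [mul_comm] at h5
    exact Nat.eq_of_mul_eq_mul_left Nat.card_pos h5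
  rw [← h4]
  exact relIndex_dvd_index_of_le le_sup_left

variable [Finite G] {p : ℕ} [hp : Fact p.Prime]

/-- If `p²` does not divide the class size, the centralizer meets some Sylow subgroup in index at most `p`. -/
theorem exists_sylow_relIndex_dvd (g : G) (h : ¬ p ^ 2 ∣ (centralizer ({g} : Set G)).index) :
    ∃ P : Sylow p G, (centralizer ({g} : Set G)).relIndex (P : Subgroup G) ∣ p := by
  set C := centralizer ({g} : Set G)
  obtain ⟨T⟩ : Nonempty (Sylow p C) := inferInstance
  set T' := (T : Subgroup C).map C.subtype with hT'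
  obtain ⟨P, hP⟩ := (T.isPGroup'.map C.subtype : IsPGroup p T').exists_le_sylow
  refine ⟨P, ?_⟩
  have hTC : T' ≤ C := map_subtype_le _
  refine (relIndex_dvd_of_le_left (P : Subgroup G) hTC).trans ?_
  obtain ⟨n, hn⟩ := IsPGroup.iff_card.1 P.isPGroup'
  obtain ⟨j, -, hj⟩ := (Nat.dvd_prime_pow hp.out).1 (hn ▸ relIndex_dvd_card T' (P : Subgroup G))
  rw [hj]
  rcases le_or_gt j 1 with hj1 | hj2
  · exact (pow_dvd_pow p hj1).trans (pow_one p).dvd
  · exfalso
    have h1 : p ^ 2 ∣ T'.index :=
      ((pow_dvd_pow p hj2).trans hj.symm.dvd).trans (relIndex_dvd_index_of_le hP)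
    rw [hT', index_map_subtype] at h1
    exact h ((Nat.Coprime.pow_left 2 ((hp.out.coprime_iff_not_dvd).2 T.not_dvd_index)).dvd_of_dvd_mul_left h1)

omit [Finite G] in
/-- Powers `a^p` and commutators lie in every subgroup of index dividing `p` of a `p`-group. -/
theorem pow_comm_mem {P : Type*} [Group P] [Finite P] (hP : IsPGroup p P) (K : Subgroup P)
    (hK : K.index ∣ p) (a b : P) : a ^ p ∈ K ∧ ⁅a, b⁆ ∈ K := by
  rcases (Nat.dvd_prime hp.out).1 hK with h1 | h1
  · rw [index_eq_one.1 h1]
    exact ⟨mem_top _, mem_top _⟩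
  obtain ⟨n, hn⟩ := IsPGroup.iff_card.1 hP
  have hn0 : n ≠ 0 := fun h0 => by
    have h2 := K.index_dvd_card
    rw [h1, hn, h0, pow_zero] at h2
    exact hp.out.not_dvd_one h2
  haveI : K.Normal := normal_of_index_eq_minFac_card (by rw [h1, hn, hp.out.pow_minFac hn0])
  refine ⟨by simpa [h1] using K.pow_index_mem a, ?_⟩
  haveI : IsCyclic (P ⧸ K) := isCyclic_of_prime_card (p := p) (by rw [← index_eq_card, h1])
  rw [← QuotientGroup.eq_one_iff]
  show QuotientGroup.mk' K ⁅a, b⁆ = 1
  rw [map_commutatorElement, commutatorElement_eq_one_iff_mul_comm]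
  exact mul_comm' _ _

/-- `p²` dividing no class size puts `a^p` and `[a,b]` in the centre for `a, b` in a Sylow subgroup. -/
theorem pow_comm_mem_center (h : ∀ x : G, ¬ p ^ 2 ∣ (centralizer ({x} : Set G)).index)
    (P : Sylow p G) {a b : G} (ha : a ∈ (P : Subgroup G)) (hb : b ∈ (P : Subgroup G)) :
    a ^ p ∈ center G ∧ ⁅a, b⁆ ∈ center G := by
  set S : Set G := {z | ∃ u ∈ (P : Subgroup G), ∃ v ∈ (P : Subgroup G), z = u ^ p ∨ z = ⁅u, v⁆}
  have htop : centralizer S = ⊤ := by
    refine Grp.eq_top_of_conj_cover _ fun g => ?_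
    obtain ⟨P', hP'⟩ := exists_sylow_relIndex_dvd g (h g)
    obtain ⟨x, hx⟩ := MulAction.exists_smul_eq G P' P
    refine ⟨x, ?_⟩
    rw [mem_centralizer_iff]
    have hmem : ∀ u : G, u ∈ (P : Subgroup G) → x⁻¹ * u * x ∈ (P' : Subgroup G) := by
      intro u hu
      rw [← hx, Sylow.coe_subgroup_smul, mem_pointwise_smul_iff_inv_smul_mem, ← map_inv] at hu
      simpa using hu
    rintro z ⟨u, hu, v, hv, hz⟩
    have key := pow_comm_mem P'.isPGroup' ((centralizer ({g} : Set G)).subgroupOf (P' : Subgroup G))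
      hP' ⟨_, hmem u hu⟩ ⟨_, hmem v hv⟩
    have hzg : x⁻¹ * z * x ∈ centralizer ({g} : Set G) := by
      rcases hz with rfl | rfl
      · have h1 := key.1
        rw [mem_subgroupOf] at h1
        simp only [SubmonoidClass.coe_pow] at h1
        convert h1 using 1
        simpa using (conj_pow (i := p) (a := x⁻¹) (b := u)).symm
      · have h1 := key.2
        rw [mem_subgroupOf] at h1
        convert h1 using 1
        simp only [commutatorElement_def, coe_mul, coe_inv]
        group
    rw [mem_centralizer_single] at hzg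
    calc z * (x * g * x⁻¹) = x * (x⁻¹ * z * x * g) * x⁻¹ := by group
      _ = x * (g * (x⁻¹ * z * x)) * x⁻¹ := by rw [hzg]
      _ = x * g * x⁻¹ * z := by group
  have key : ∀ z ∈ S, z ∈ center G := fun z hz => by
    rw [mem_center_iff]
    intro g
    have hg : g ∈ centralizer S := htop ▸ mem_top g
    exact (mem_centralizer_iff.1 hg z hz).symm
  exact ⟨key _ ⟨a, ha, b, hb, Or.inl rfl⟩, key _ ⟨a, ha, b, hb, Or.inr rfl⟩⟩

/-- Every element is a commuting product of a `p`-element and a `p'`-element, both among its powers. -/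
theorem exists_p_decomp (g : G) :
    ∃ a b : G, a ∈ zpowers g ∧ b ∈ zpowers g ∧ (∃ k, orderOf a = p ^ k) ∧
      (orderOf b).Coprime p ∧ g = a * b := by
  have hd : orderOf g ≠ 0 := (orderOf_pos g).ne'
  obtain ⟨a, b, ha, hb, ha1, hb1, hg⟩ := Grp.exists_pow_decomp
    (g := g) (m := p ^ (orderOf g).factorization p) (n := ordCompl[p] (orderOf g))
    ((Nat.coprime_ordCompl hp.out hd).pow_left _)
    (by rw [Nat.ordProj_mul_ordCompl_eq_self, pow_orderOf_eq_one])
  refine ⟨a, b, ha, hb, ?_, ?_, hg⟩
  · obtain ⟨k, -, hk⟩ := (Nat.dvd_prime_pow hp.out).1 (orderOf_dvd_of_pow_eq_one ha1)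
    exact ⟨k, hk⟩
  · exact ((Nat.coprime_ordCompl hp.out hd).symm).coprime_dvd_left (orderOf_dvd_of_pow_eq_one hb1)

/-- A `p'`-element normalizing `P` acts trivially if it does so on `K` and on `P/K`. -/
theorem conj_eq_self_of_step {P : Subgroup G} (hP : IsPGroup p P) {g x : G}
    (hg : (orderOf g).Coprime p) (hx : g * x * g⁻¹ * x⁻¹ ∈ P)
    (hc : Commute g (g * x * g⁻¹ * x⁻¹)) : g * x * g⁻¹ = x := by
  set k := g * x * g⁻¹ * x⁻¹ with hk
  have h1 : ∀ n : ℕ, g ^ n * x * (g ^ n)⁻¹ = k ^ n * x := by
    intro n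
    induction n with
    | zero => simp
    | succ n ih =>
      rw [pow_succ' g n, show g * g ^ n * x * (g * g ^ n)⁻¹ = g * (g ^ n * x * (g ^ n)⁻¹) * g⁻¹ by
        group, ih, show g * (k ^ n * x) * g⁻¹ = g * k ^ n * (g⁻¹ * (g * x * g⁻¹)) by group,
        show g * x * g⁻¹ = k * x by rw [hk]; group, (hc.pow_right n).eq, pow_succ k n]
      group
  have h2 := h1 (orderOf g)
  rw [pow_orderOf_eq_one, inv_one, one_mul, mul_one, eq_comm, mul_eq_right] at h2
  obtain ⟨j, hj⟩ := IsPGroup.iff_orderOf.1 hP ⟨k, hx⟩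
  rw [orderOf_mk] at hj
  have h3 : orderOf k = 1 :=
    Nat.eq_one_of_dvd_coprimes (hg.pow_right j) (orderOf_dvd_of_pow_eq_one h2) hj.dvd
  rw [orderOf_eq_one_iff, hk, mul_inv_eq_one] at h3
  exact h3

/-- In a group with a normal `p`-complement a `p'`-element normalizing an abelian Sylow subgroup centralizes it. -/
theorem commute_of_complement (P : Sylow p G) (h : HasNormalPComplement p G) {g x : G}
    (hg : (orderOf g).Coprime p) (hgN : g ∈ Subgroup.normalizer (P : Set G))
    (hx : x ∈ (P : Subgroup G)) : g * x * g⁻¹ = x := by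
  haveI : (pResidual p G).Normal := by
    obtain ⟨N, hN, hd, k, hk⟩ := hasNormalPComplement_iff_exists.1 h
    haveI := hN
    exact eq_pResidual hd hk ▸ hN
  have hgR : g ∈ pResidual p G := (mem_pResidual_iff h).2 hg
  have h1 : g * x * g⁻¹ * x⁻¹ ∈ pResidual p G ⊓ (P : Subgroup G) := by
    refine ⟨?_, (P : Subgroup G).mul_mem ?_ ((P : Subgroup G).inv_mem hx)⟩
    · have h2 := (inferInstance : (pResidual p G).Normal).conj_mem g⁻¹ (inv_mem hgR) x
      simpa [mul_assoc] using mul_mem hgR h2
    · exact (mem_normalizer_iff.1 hgN x).1 hx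
  rw [pResidual_inf_sylow_eq_bot P h, mem_bot, mul_inv_eq_one] at h1
  exact h1

/-- The number of `p'`-elements in a group with a normal `p`-complement. -/
theorem card_coprime_mul (h : HasNormalPComplement p G) (P : Sylow p G) :
    Nat.card {y : G | (orderOf y).Coprime p} * Nat.card (P : Subgroup G) = Nat.card G := by
  obtain ⟨N, hN, hd, k, hk⟩ := hasNormalPComplement_iff_exists.1 h
  haveI := hN
  have hN' := eq_pResidual hd hk
  have hset : {y : G | (orderOf y).Coprime p} = (N : Set G) := by
    ext y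
    rw [hN']
    exact (mem_pResidual_iff h).symm
  rw [hset]
  exact (isComplement'_sylow P hd hk).card_mul

/-- The centralizer criterion: an abelian Sylow `p`-subgroup `P` is centralized by the `p'`-elements of its
normalizer, if every `p'`-element commutes with a nontrivial `p`-element and all centralizers of nontrivial
elements of `P` have normal `p`-complements. -/
theorem hasNormalPComplement_of_centralizers (P : Sylow p G)
    (hab : ∀ a ∈ (P : Subgroup G), ∀ b ∈ (P : Subgroup G), a * b = b * a)
    (hcov : ∀ y : G, (orderOf y).Coprime p →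
      ∃ z : G, z ≠ 1 ∧ (∃ k, orderOf z = p ^ k) ∧ Commute z y)
    (hC : ∀ z ∈ (P : Subgroup G), z ≠ 1 → HasNormalPComplement p (centralizer ({z} : Set G))) :
    HasNormalPComplement p G := by
  classical
  have := Fintype.ofFinite G
  have hP : IsMulCommutative (P : Subgroup G) :=
    ⟨⟨fun a b => Subtype.ext (hab a a.2 b b.2)⟩⟩
  refine hasNormalPComplement_of_prime_elements P hP fun r hr hrp h hhN hh x₀ hx₀ => ?_
  have hhp : (orderOf h).Coprime p := by
    obtain ⟨k, hk⟩ := hh
    rw [hk]
    exact ((Nat.coprime_primes hr hp.out).2 hrp).pow_left k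
  by_contra hne
  -- `h` moves every nontrivial element of `P`
  have hfix : ∀ z ∈ (P : Subgroup G), z ≠ 1 → h * z * h⁻¹ ≠ z := by
    intro z hz hz1 heq
    set C := centralizer ({z} : Set G)
    have hPC : (P : Subgroup G) ≤ C := fun a ha => mem_centralizer_single.2 (hab a ha z hz)
    have hhC : h ∈ C := mem_centralizer_single.2 (mul_inv_eq_iff_eq_mul.1 heq)
    have h1 := commute_of_complement (P.subtype hPC) (hC z hz hz1) (g := ⟨h, hhC⟩) (x := ⟨x₀, hPC hx₀⟩)
      (by rwa [orderOf_mk]) (by
        refine mem_normalizer_iff.2 ?_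
        intro u
        exact mem_normalizer_iff.1 hhN u) hx₀
    exact hne (congrArg Subtype.val h1)
  set q := Nat.card (P : Subgroup G) with hq
  set Ps : Set G := {z | z ≠ 1 ∧ ∃ k, orderOf z = p ^ k}
  set T : Set G := {y | (orderOf y).Coprime p}
  set PR : Set (G × G) := {w | w.1 ∈ Ps ∧ w.2 ∈ T ∧ Commute w.1 w.2}
  -- every pair comes from at least two elements of `P`
  have hT1 : Nat.card T ≤ Nat.card PR := by
    choose f hf using fun y : T => hcov y.1 y.2
    refine Nat.card_le_card_of_injective
      (fun y : T => (⟨(f y, (y : G)), ⟨(hf y).1, (hf y).2.1⟩, y.2, (hf y).2.2⟩ : PR)) ?_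
    intro y₁ y₂ he
    exact Subtype.ext (congrArg (fun w : PR => w.1.2) he)
  have hG1 : Nat.card G ≤ Nat.card T + Nat.card PR := by
    have hs : Set.univ ⊆ T ∪ (fun w : G × G => w.1 * w.2) '' PR := by
      intro g _
      obtain ⟨a, b, ha, hb, hak, hbp, hg⟩ := exists_p_decomp (p := p) g
      by_cases ha1 : a = 1
      · left
        show (orderOf g).Coprime p
        rw [hg, ha1, one_mul]
        exact hbp
      · right
        refine ⟨(a, b), ⟨⟨ha1, hak⟩, hbp, ?_⟩, hg.symm⟩
        obtain ⟨i, rfl⟩ := ha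
        obtain ⟨j, rfl⟩ := hb
        exact Commute.zpow_zpow_self g i j
    calc Nat.card G = (Set.univ : Set G).ncard := by rw [Set.ncard_univ]
      _ ≤ (T ∪ (fun w : G × G => w.1 * w.2) '' PR).ncard := Set.ncard_le_ncard hs
      _ ≤ T.ncard + ((fun w : G × G => w.1 * w.2) '' PR).ncard := Set.ncard_union_le _ _
      _ ≤ T.ncard + PR.ncard := Nat.add_le_add_left (Set.ncard_image_le) _
      _ = _ := by rw [← Nat.card_coe_set_eq, ← Nat.card_coe_set_eq]
  -- `2 q |PR| ≤ |G| (q - 1)`
  have hPR : Nat.card PR * q * 2 ≤ Nat.card G * (q - 1) := by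
    let A := Finset.univ.filter (fun z : G => z ∈ Ps)
    let P1 := Finset.univ.filter (fun z : G => z ∈ (P : Subgroup G) ∧ z ≠ 1)
    have hP1 : P1.card = q - 1 := by
      have h1 : P1 = (Finset.univ.filter (fun z : G => z ∈ (P : Subgroup G))).erase 1 := by
        ext z; simp [P1, and_comm]
      rw [h1, Finset.card_erase_of_mem (by simp), hq, Nat.card_eq_fintype_card,
        Fintype.card_subtype]
    have hPR' : Nat.card PR = ∑ z ∈ A, Nat.card {y : G | y ∈ T ∧ Commute z y} := by
      rw [Nat.card_coe_set_eq, Set.ncard_eq_toFinset_card']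
      rw [Finset.card_eq_sum_card_fiberwise (f := Prod.fst) (t := A) (by
        intro w hw
        have hw' : w ∈ PR := by simpa using hw
        simpa [A] using hw'.1)]
      refine Finset.sum_congr rfl fun z hz => ?_
      rw [Nat.card_coe_set_eq, Set.ncard_eq_toFinset_card']
      refine Finset.card_nbij' (fun w => w.2) (fun y => (z, y)) ?_ ?_ ?_ ?_
      · intro w hw
        simp only [Finset.mem_coe, Finset.mem_filter, Set.mem_toFinset] at hw ⊢
        obtain ⟨⟨-, hw2, hw3⟩, rfl⟩ := hw
        exact ⟨hw2, hw3⟩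
      · intro y hy
        simp only [Finset.mem_coe, Finset.mem_filter, Set.mem_toFinset] at hy ⊢
        exact ⟨⟨by simpa [A] using hz, hy.1, hy.2⟩, trivial⟩
      · intro w hw
        simp only [Finset.mem_coe, Finset.mem_filter] at hw
        obtain ⟨-, rfl⟩ := hw
        rfl
      · intro y _; rfl
    have hfib : ∀ z ∈ A, Nat.card {y : G | y ∈ T ∧ Commute z y} * q * 2 ≤
        ((P1 ×ˢ (Finset.univ : Finset G)).filter (fun ug => ug.2 * ug.1 * ug.2⁻¹ = z)).card := by
      intro z hz
      obtain ⟨hz1, kz, hkz⟩ : z ∈ Ps := by simpa [A] using hz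
      have hzp : IsPGroup p (zpowers z) := IsPGroup.of_card (n := kz) (by rw [Nat.card_zpowers, hkz])
      obtain ⟨Q, hQ⟩ := hzp.exists_le_sylow
      obtain ⟨c, hc⟩ := MulAction.exists_smul_eq G P Q
      set u₁ := c⁻¹ * z * c with hu₁
      have hu : u₁ ∈ (P : Subgroup G) := by
        have h1 : z ∈ (Q : Subgroup G) := hQ (mem_zpowers z)
        rw [← hc, Sylow.coe_subgroup_smul, mem_pointwise_smul_iff_inv_smul_mem, ← map_inv] at h1
        simpa [hu₁] using h1
      have hu1 : u₁ ≠ 1 := by
        intro h1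
        apply hz1
        calc z = c * u₁ * c⁻¹ := by rw [hu₁]; group
          _ = 1 := by rw [h1]; group
      have hz' : z = c * u₁ * c⁻¹ := by rw [hu₁]; group
      set C := centralizer ({u₁} : Set G) with hCdef
      have hPC : (P : Subgroup G) ≤ C := fun a ha => mem_centralizer_single.2 (hab a ha u₁ hu)
      have hcard : Nat.card {y : G | y ∈ T ∧ Commute z y} * q = Nat.card C := by
        rw [← card_coprime_mul (hC u₁ hu hu1) (P.subtype hPC)]
        congr 1
        · refine Nat.card_congr ⟨fun y => ⟨⟨c⁻¹ * y.1 * c, ?_⟩, ?_⟩,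
            fun y => ⟨c * (y.1 : G) * c⁻¹, ?_, ?_⟩, ?_, ?_⟩
          · refine mem_centralizer_single.2 ?_
            rw [hu₁,
              show c⁻¹ * y.1 * c * (c⁻¹ * z * c) = c⁻¹ * (y.1 * z) * c by group, ← y.2.2.eq]
            group
          · show (orderOf _).Coprime p
            rw [orderOf_mk, show c⁻¹ * y.1 * c = (MulAut.conj c⁻¹) y.1 by simp,
              MulEquiv.orderOf_eq]
            exact y.2.1
          · show (orderOf _).Coprime p
            rw [show c * (y.1 : G) * c⁻¹ = (MulAut.conj c) y.1 by simp, MulEquiv.orderOf_eq,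
              orderOf_coe]
            exact y.2
          · have h1 := mem_centralizer_single.1 y.1.2
            show z * (c * (y.1 : G) * c⁻¹) = c * (y.1 : G) * c⁻¹ * z
            calc z * (c * (y.1 : G) * c⁻¹) = c * (u₁ * (y.1 : G)) * c⁻¹ := by rw [hz']; group
              _ = c * ((y.1 : G) * u₁) * c⁻¹ := by rw [h1]
              _ = c * (y.1 : G) * c⁻¹ * z := by rw [hz']; group
          · intro y; ext; simp [mul_assoc]
          · intro y; apply Subtype.ext; apply Subtype.ext; simp [mul_assoc]
        · exact Nat.card_congr (subgroupOfEquivOfLe hPC).toEquiv.symm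
      rw [hcard]
      set u₂ := h * u₁ * h⁻¹ with hu₂
      have hu2P : u₂ ∈ (P : Subgroup G) := (mem_normalizer_iff.1 hhN u₁).1 hu
      have hu21 : u₂ ≠ 1 := by rw [hu₂]; simp [hu1]
      have hdist : u₁ ≠ u₂ := fun he => hfix u₁ hu hu1 he.symm
      let F : Bool × C → G × G := fun bt => if bt.1 then (u₁, c * bt.2.1) else (u₂, c * bt.2.1 * h⁻¹)
      have hcards : Nat.card C * 2 = (Finset.univ : Finset (Bool × C)).card := by
        rw [Finset.card_univ, Fintype.card_prod, Fintype.card_bool, Nat.card_eq_fintype_card, mul_comm]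
      rw [hcards]
      refine Finset.card_le_card_of_injOn F ?_ ?_
      · rintro ⟨b, t⟩ -
        have ht := mem_centralizer_single.1 t.2
        have ht' : (t : G) * u₁ * (t : G)⁻¹ = u₁ := by rw [ht]; group
        cases b
        · simp only [F, Bool.false_eq_true, if_false, Finset.mem_coe, Finset.mem_filter,
            Finset.mem_product, Finset.mem_univ, and_true, P1, true_and]
          refine ⟨⟨hu2P, hu21⟩, ?_⟩
          calc c * (t : G) * h⁻¹ * u₂ * (c * (t : G) * h⁻¹)⁻¹
              = c * ((t : G) * u₁ * (t : G)⁻¹) * c⁻¹ := by rw [hu₂]; group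
            _ = z := by rw [ht', hu₁]; group
        · simp only [F, if_true, Finset.mem_coe, Finset.mem_filter,
            Finset.mem_product, Finset.mem_univ, and_true, P1, true_and]
          refine ⟨⟨hu, hu1⟩, ?_⟩
          calc c * (t : G) * u₁ * (c * (t : G))⁻¹ = c * ((t : G) * u₁ * (t : G)⁻¹) * c⁻¹ := by group
            _ = z := by rw [ht', hu₁]; group
      · rintro ⟨b₁, t₁⟩ - ⟨b₂, t₂⟩ - he
        cases b₁ <;> cases b₂
        · have h1 : c * (t₁ : G) * h⁻¹ = c * (t₂ : G) * h⁻¹ := congrArg Prod.snd he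
          rw [mul_left_inj, mul_right_inj] at h1
          rw [Subtype.ext h1]
        · exact absurd (congrArg Prod.fst he : u₂ = u₁) hdist.symm
        · exact absurd (congrArg Prod.fst he : u₁ = u₂) hdist
        · have h1 : c * (t₁ : G) = c * (t₂ : G) := congrArg Prod.snd he
          rw [mul_right_inj] at h1
          rw [Subtype.ext h1]
    rw [hPR', Finset.sum_mul, Finset.sum_mul]
    calc ∑ z ∈ A, Nat.card {y : G | y ∈ T ∧ Commute z y} * q * 2
        ≤ ∑ z ∈ A, ((P1 ×ˢ (Finset.univ : Finset G)).filter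
            (fun ug => ug.2 * ug.1 * ug.2⁻¹ = z)).card := Finset.sum_le_sum hfib
      _ ≤ (P1 ×ˢ (Finset.univ : Finset G)).card := by
        rw [← Finset.card_biUnion (by
          intro a _ b _ hab'
          rw [Function.onFun, Finset.disjoint_left]
          intro w hw1 hw2
          exact hab' ((Finset.mem_filter.1 hw1).2.symm.trans (Finset.mem_filter.1 hw2).2))]
        refine Finset.card_le_card fun w hw => ?_
        simp only [Finset.mem_biUnion, Finset.mem_filter] at hw
        obtain ⟨z, -, hw, -⟩ := hw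
        exact hw
      _ = Nat.card G * (q - 1) := by
        rw [Finset.card_product, Finset.card_univ, hP1, Nat.card_eq_fintype_card, mul_comm]
  have hq0 : 0 < q := Nat.card_pos
  have hG0 : 0 < Nat.card G := Nat.card_pos
  obtain ⟨q', hq'⟩ : ∃ q', q = q' + 1 := ⟨q - 1, by omega⟩
  rw [hq'] at hPR
  simp only [Nat.add_sub_cancel] at hPR
  have h3 : Nat.card G * (q' + 1) ≤ (Nat.card PR + Nat.card PR) * (q' + 1) :=
    Nat.mul_le_mul_right _ (hG1.trans (Nat.add_le_add_right hT1 _))
  nlinarith

end Cfsg.Agent.Transfer.SquareFree
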