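import Cfsg.Agent.Lib.Transfer.SquareFree.Structure

/-!
Groups with square-free class sizes: supersolvability and the order of the derived subgroup.
-/
set_option autoImplicit false
set_option linter.style.haveILetI false

open scoped commutatorElement Pointwise

namespace Cfsg.Agent.Transfer.SquareFree

open Cfsg Subgroup

universe u

variable {G : Type*} [Group G]

/-- `v ↦ [g, v]` on a subgroup commuting with these values. -/
def commHom (g : G) (V : Subgroup G) (h : ∀ v ∈ V, ∀ w ∈ V, v * ⁅g, w⁆ = ⁅g, w⁆ * v) : V →* G where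
  toFun v := ⁅g, (v : G)⁆
  map_one' := commutatorElement_one_right g
  map_mul' v w := by
    have h1 : ⁅g, ((v * w : V) : G)⁆ = ⁅g, (v : G)⁆ * ((v : G) * ⁅g, (w : G)⁆ * (v : G)⁻¹) := by
      simp only [commutatorElement_def, coe_mul]; group
    rw [h1, h v v.2 w w.2, mul_inv_cancel_right]

theorem commHom_apply (g : G) (V : Subgroup G) (h) (v : V) : commHom g V h v = ⁅g, (v : G)⁆ := rfl

theorem ker_commHom (g : G) (V : Subgroup G) (h) :
    (commHom g V h).ker = (centralizer ({g} : Set G)).subgroupOf V := by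
  ext v
  rw [MonoidHom.mem_ker, commHom_apply, mem_subgroupOf, mem_centralizer_single,
    commutatorElement_eq_one_iff_mul_comm]
  exact eq_comm

theorem relIndex_dvd_index_normal_right [Finite G] (C N : Subgroup G) [N.Normal] :
    C.relIndex N ∣ C.index := by
  have h1 := Grp.card_sup_mul_card_inf_normal (H := C) (N := N)
  have h2 := Grp.card_mul_relIndex (le_sup_left : C ≤ C ⊔ N)
  have h3 := Grp.relIndex_mul_card_inf N C
  rw [inf_comm] at h3
  rw [← h2, ← h3, mul_assoc] at h1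
  have h5 : C.relIndex (C ⊔ N) * Nat.card ↥(C ⊓ N) = Nat.card ↥(C ⊓ N) * C.relIndex N :=
    Nat.eq_of_mul_eq_mul_left Nat.card_pos h1
  rw [mul_comm] at h5
  rw [← Nat.eq_of_mul_eq_mul_left Nat.card_pos h5]
  exact relIndex_dvd_index_of_le le_sup_left

variable [Finite G] {p : ℕ} [hp : Fact p.Prime]

omit [Finite G] in
theorem card_range_commHom_dvd [Finite G] (hsf : SFClasses G) (g : G) (V : Subgroup G) [V.Normal]
    (hV : IsPGroup p V) (h) : Nat.card (commHom g V h).range ∣ p := by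
  have h1 : Nat.card (commHom g V h).range = (centralizer ({g} : Set G)).relIndex V := by
    rw [← index_ker, ker_commHom]
    rfl
  obtain ⟨n, hn⟩ := IsPGroup.iff_card.1 hV
  obtain ⟨j, -, hj⟩ := (Nat.dvd_prime_pow hp.out).1 (hn ▸ relIndex_dvd_card (centralizer ({g} : Set G)) V)
  rw [h1, hj]
  have h2 : p ^ j ∣ (centralizer ({g} : Set G)).index := hj ▸ relIndex_dvd_index_normal_right _ V
  rcases le_or_gt j 1 with hj1 | hj2
  · exact (pow_dvd_pow p hj1).trans (pow_one p).dvd
  · exact absurd ((pow_dvd_pow p hj2).trans h2) (hsf.not_sq_dvd hp.out g)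

omit [Finite G] in
theorem card_range_eq {V W : Type*} [Group V] [Group W] [Finite V] {φ : V →* W}
    (h : Nat.card φ.range ∣ p) (hne : φ ≠ 1) : Nat.card φ.range = p := by
  rcases (Nat.dvd_prime hp.out).1 h with h1 | h1
  · exact absurd (MonoidHom.range_eq_bot_iff.1 (card_eq_one.1 h1)) hne
  · exact h1

/-- Two rank-one maps whose twisted product has rank one share the kernel or the image. -/
theorem ker_eq_or_range_eq {V W : Type*} [Group V] [Group W] [Finite V]
    (φ ψ χ : V →* W) (σ : V ≃* V) (hχ : ∀ v, χ v = φ (σ v) * ψ v) (hσ : ∀ v, ψ v = 1 → σ v = v)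
    (hφ : Nat.card φ.range ∣ p) (hψ : Nat.card ψ.range ∣ p) (hχp : Nat.card χ.range ∣ p)
    (hφ1 : φ ≠ 1) (hψ1 : ψ ≠ 1) : φ.ker = ψ.ker ∨ φ.range = ψ.range := by
  by_contra hcon
  push Not at hcon
  obtain ⟨hker, hran⟩ := hcon
  have hiφ : φ.ker.index = p := by rw [index_ker, card_range_eq hφ hφ1]
  have hiψ : ψ.ker.index = p := by rw [index_ker, card_range_eq hψ hψ1]
  have hcard : Nat.card φ.ker = Nat.card ψ.ker :=
    Nat.eq_of_mul_eq_mul_right hp.out.pos (by
      conv_lhs => rw [← hiφ, card_mul_index]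
      rw [← hiψ, card_mul_index])
  obtain ⟨v, hvψ, hvφ⟩ : ∃ v, ψ v = 1 ∧ φ v ≠ 1 := by
    by_contra hno
    push Not at hno
    exact hker (eq_of_le_of_card_ge (K := φ.ker) (H := ψ.ker) (fun v hv => hno v hv) hcard.le).symm
  obtain ⟨w, hwφ, hwψ⟩ : ∃ w, φ (σ w) = 1 ∧ ψ w ≠ 1 := by
    by_contra hno
    push Not at hno
    refine hker (eq_of_le_of_card_ge (fun u hu => ?_) hcard.symm.le)
    obtain ⟨w, rfl⟩ := σ.surjective u
    have h1 := hno w hu
    rw [hσ w h1]
    exact h1
  have key : ∀ (θ : V →* W) (x : W), Nat.card θ.range ∣ p → x ∈ θ.range → x ≠ 1 → θ.range = zpowers x := by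
    intro θ x hθ hx hx1
    haveI : Finite θ.range := Set.Finite.to_subtype (Set.finite_range θ)
    haveI : Finite (zpowers x) :=
      Finite.of_injective _ (inclusion_injective (zpowers_le.2 hx))
    refine (eq_of_le_of_card_ge (zpowers_le.2 hx) ?_).symm
    rcases (Nat.dvd_prime hp.out).1 hθ with h1 | h1
    · rw [h1]; exact Nat.card_pos
    · rw [h1, Nat.card_zpowers]
      have h2 : orderOf x ∣ p := h1 ▸ θ.range.orderOf_dvd_natCard hx
      rcases (Nat.dvd_prime hp.out).1 h2 with h3 | h3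
      · exact absurd (orderOf_eq_one_iff.1 h3) hx1
      · exact h3.ge
  have hv' : χ v = φ v := by rw [hχ, hσ v hvψ, hvψ, mul_one]
  have hw' : χ w = ψ w := by rw [hχ, hwφ, one_mul]
  have h1 := key χ (χ v) hχp ⟨v, rfl⟩ (hv' ▸ hvφ)
  have h2 := key χ (χ w) hχp ⟨w, rfl⟩ (hw' ▸ hwψ)
  refine hran ?_
  rw [key φ (φ v) hφ ⟨v, rfl⟩ hvφ, key ψ (ψ w) hψ ⟨w, rfl⟩ hwψ, ← hv', ← hw', ← h1, ← h2]

/-- A family in which any two nontrivial members share kernel or image: one of the two is common to all. -/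
theorem ker_common_or_range_common {V W ι : Type*} [Group V] [Group W] (Φ : ι → V →* W)
    (h : ∀ i j, Φ i ≠ 1 → Φ j ≠ 1 → (Φ i).ker = (Φ j).ker ∨ (Φ i).range = (Φ j).range) :
    (∀ i j, Φ i ≠ 1 → Φ j ≠ 1 → (Φ i).ker = (Φ j).ker) ∨
      ∀ i j, Φ i ≠ 1 → Φ j ≠ 1 → (Φ i).range = (Φ j).range := by
  by_contra hcon
  push Not at hcon
  obtain ⟨⟨a, b, ha, hb, hab⟩, ⟨c, d, hc, hd, hcd⟩⟩ := hcon
  have hr : (Φ a).range = (Φ b).range := (h a b ha hb).resolve_left hab
  have key : ∀ i, Φ i ≠ 1 → (Φ i).range = (Φ a).range := by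
    intro i hi
    rcases h i a hi ha with e | e
    · exact ((h i b hi hb).resolve_left (fun e' => hab (e.symm.trans e'))).trans hr.symm
    · exact e
  exact hcd ((key c hc).trans (key d hd).symm)

omit [Finite G] hp in
/-- The twisted product identity. -/
theorem commHom_mul_eq (g h : G) (V : Subgroup G) [V.Normal] (hg) (hh) (hgh) (v : V) :
    commHom (g * h) V hgh v = commHom g V hg (MulAut.conjNormal h v) * commHom h V hh v := by
  simp only [commHom_apply, MulAut.conjNormal_apply, commutatorElement_def]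
  group

omit [Finite G] hp in
theorem conjNormal_eq_self (h : G) (V : Subgroup G) [V.Normal] (hh) (v : V)
    (hv : commHom h V hh v = 1) : MulAut.conjNormal h v = v := by
  rw [commHom_apply, commutatorElement_eq_one_iff_mul_comm] at hv
  exact Subtype.ext (by rw [MulAut.conjNormal_apply, hv, mul_inv_cancel_right])

/-- A minimal normal abelian `p`-subgroup has order `p`. -/
theorem card_minimal_normal (hsf : SFClasses G) (V : Subgroup G) [V.Normal] (hne : V ≠ ⊥)
    (hmin : ∀ K : Subgroup G, K.Normal → K ≤ V → K = ⊥ ∨ K = V)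
    (hab : IsMulCommutative V) (hexp : ∀ x ∈ V, x ^ p = 1) : Nat.card V ∣ p := by
  have hVp : IsPGroup p V := fun x => ⟨1, Subtype.ext (by simpa using hexp x x.2)⟩
  have hcm : ∀ g : G, ∀ v ∈ V, ∀ w ∈ V, v * ⁅g, w⁆ = ⁅g, w⁆ * v := by
    intro g v hv w hw
    have hm : ⁅g, w⁆ ∈ V := by
      rw [commutatorElement_def]
      exact V.mul_mem ((inferInstance : V.Normal).conj_mem w hw g) (V.inv_mem hw)
    exact congrArg Subtype.val (hab.is_comm.comm ⟨v, hv⟩ ⟨_, hm⟩)
  set Φ : G → (V →* G) := fun g => commHom g V (hcm g)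
  have hΦ : ∀ g, Nat.card (Φ g).range ∣ p := fun g => card_range_commHom_dvd hsf g V hVp _
  have hrV : ∀ g, (Φ g).range ≤ V := by
    rintro g _ ⟨w, rfl⟩
    show ⁅g, (w : G)⁆ ∈ V
    rw [commutatorElement_def]
    exact V.mul_mem ((inferInstance : V.Normal).conj_mem w w.2 g) (V.inv_mem w.2)
  by_cases hall : ∀ g, Φ g = 1
  · obtain ⟨v, hv, hv1⟩ := (ne_bot_iff_exists_ne_one.1 hne |> fun ⟨a, ha⟩ =>
      (⟨a.1, a.2, fun e => ha (Subtype.ext e)⟩ : ∃ v ∈ V, v ≠ 1))
    have hvc : ∀ g : G, g * v = v * g := fun g => by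
      have h1 := DFunLike.congr_fun (hall g) ⟨v, hv⟩
      exact commutatorElement_eq_one_iff_mul_comm.1 h1
    have hn : (zpowers v).Normal := ⟨fun a ha c => by
      obtain ⟨i, rfl⟩ := ha
      rw [((show Commute c v from hvc c).zpow_right i).eq, mul_inv_cancel_right]
      exact ⟨i, rfl⟩⟩
    rcases hmin _ hn (zpowers_le.2 hv) with e | e
    · exact absurd (zpowers_eq_bot.1 e) hv1
    · rw [← e, Nat.card_zpowers]
      exact orderOf_dvd_of_pow_eq_one (hexp v hv)
  push Not at hall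
  obtain ⟨g₀, hg₀⟩ := hall
  have hpair : ∀ g h, Φ g ≠ 1 → Φ h ≠ 1 → (Φ g).ker = (Φ h).ker ∨ (Φ g).range = (Φ h).range :=
    fun g h hg hh => ker_eq_or_range_eq (Φ g) (Φ h) (Φ (g * h)) (MulAut.conjNormal h)
      (commHom_mul_eq g h V _ _ _) (conjNormal_eq_self h V _) (hΦ g) (hΦ h) (hΦ (g * h)) hg hh
  rcases ker_common_or_range_common Φ hpair with hk | hr
  · have hbot : V ⊓ center G = ⊥ := by
      rcases hmin (V ⊓ center G) inferInstance inf_le_left with e | e
      · exact e
      · exfalso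
        refine hg₀ (MonoidHom.ext fun v => ?_)
        have hv : (v : G) ∈ V ⊓ center G := e.symm ▸ v.2
        exact commutatorElement_eq_one_iff_mul_comm.2 (mem_center_iff.1 hv.2 g₀)
    have hker : (Φ g₀).ker = ⊥ := by
      rw [eq_bot_iff]
      intro v hv
      have hc : (v : G) ∈ center G := by
        rw [mem_center_iff]
        intro g
        refine commutatorElement_eq_one_iff_mul_comm.1 ?_
        by_cases hg : Φ g = 1
        · exact DFunLike.congr_fun hg v
        · have : v ∈ (Φ g).ker := hk g₀ g hg₀ hg ▸ hv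
          exact this
      have : (v : G) ∈ V ⊓ center G := ⟨v.2, hc⟩
      rw [hbot, mem_bot] at this
      exact mem_bot.2 (Subtype.ext this)
    have h1 := index_ker (Φ g₀)
    rw [hker, index_bot] at h1
    rw [h1]
    exact hΦ g₀
  · set R := (Φ g₀).range
    have hn : R.Normal := by
      refine ⟨?_⟩
      rintro _ ⟨w, rfl⟩ c
      have h1 : c * Φ g₀ w * c⁻¹ = Φ (c * g₀ * c⁻¹) (MulAut.conjNormal c w) := by
        simp only [Φ, commHom_apply, MulAut.conjNormal_apply, commutatorElement_def]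
        group
      rw [h1]
      by_cases hg : Φ (c * g₀ * c⁻¹) = 1
      · rw [hg]; exact R.one_mem
      · show _ ∈ (Φ g₀).range
        rw [← hr _ g₀ hg hg₀]
        exact ⟨_, rfl⟩
    rcases hmin R hn (hrV g₀) with e | e
    · exact absurd (MonoidHom.range_eq_bot_iff.1 e) hg₀
    · rw [← e]
      exact hΦ g₀

/-- Square-free class sizes give supersolvability. -/
theorem SFClasses.isSupersolvable : ∀ (n : ℕ) {G : Type u} [Group G] [Finite G], Nat.card G = n →
    SFClasses G → Cfsg.IsSupersolvable G := by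
  intro n
  induction n using Nat.strong_induction_on with
  | _ n ih =>
  intro G _ _ hn h
  by_cases h1 : (⊤ : Subgroup G) = ⊥
  · exact Grp.isSupersolvable_iff.2 (h1 ▸ Grp.SSReach.bot)
  haveI := SFClasses.isSolvable (Nat.card G) rfl h
  obtain ⟨V, hVn, hV, -, hmin⟩ := Grp.exists_minimal_normal_le h1
  haveI := hVn
  obtain ⟨hab, q, hq, hexp⟩ := Grp.minimal_normal_solvable (N := V) inferInstance hV hmin
  haveI := Fact.mk hq
  have hd := card_minimal_normal h V hV hmin hab hexp
  haveI : IsCyclic V := isCyclic_of_card_dvd_prime (p := q) hd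
  exact Grp.isSupersolvable_of_cyclic_normal V
    (ih _ (hn ▸ Grp.card_quotient_lt hV) rfl (h.quotient V))

/-- In a supersolvable group with square-free class sizes and all minimal normal subgroups `p`-groups,
the derived subgroup has order dividing `p`. -/
theorem card_commutator_dvd_of_isPGroup (hsf : SFClasses G) (hG' : IsPGroup p (commutator G)) :
    Nat.card (commutator G) ∣ p := by
  classical
  obtain ⟨P, hP⟩ := hG'.exists_le_sylow
  haveI hPn : (P : Subgroup G).Normal := Subgroup.Normal.of_commutator_le (h := hP)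
  obtain ⟨H, hH⟩ := exists_left_complement'_of_coprime P.card_coprime_index
  have hHcard : (Nat.card H).Coprime p := by
    rw [← hH.index_eq_card]
    exact ((hp.out.coprime_iff_not_dvd).2 P.not_dvd_index).symm
  have hpH : ∀ h ∈ H, (orderOf h).Coprime p := fun h hh =>
    hHcard.coprime_dvd_left (H.orderOf_dvd_natCard hh)
  have hHab : ∀ h ∈ H, ∀ k ∈ H, h * k = k * h := by
    intro h hh k hk
    have h1 : ⁅h, k⁆ ∈ H ⊓ (P : Subgroup G) :=
      ⟨H.mul_mem (H.mul_mem (H.mul_mem hh hk) (H.inv_mem hh)) (H.inv_mem hk),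
        hP (commutator_def G ▸ commutator_mem_commutator (mem_top h) (mem_top k))⟩
    rwa [hH.disjoint.eq_bot, mem_bot, commutatorElement_eq_one_iff_mul_comm] at h1
  have hdec : ∀ g : G, ∃ x ∈ (P : Subgroup G), ∃ h ∈ H, g = x * h := by
    intro g
    obtain ⟨⟨⟨h, hh⟩, ⟨x, hx⟩⟩, hhx⟩ := hH.existsUnique g⁻¹ |>.exists
    exact ⟨x⁻¹, inv_mem hx, h⁻¹, inv_mem hh, by
      have : h * x = g⁻¹ := hhx
      rw [← mul_inv_rev, this, inv_inv]⟩
  have hpc := fun {a b : G} (ha : a ∈ (P : Subgroup G)) (hb : b ∈ (P : Subgroup G)) =>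
    pow_comm_mem_center (hsf.not_sq_dvd hp.out) P ha hb
  by_cases hfix : ∀ h ∈ H, ∀ x ∈ (P : Subgroup G), h * x = x * h
  · -- `H` centralizes `P`
    have hcm : ∀ x : (P : Subgroup G), ∀ v ∈ (P : Subgroup G), ∀ w ∈ (P : Subgroup G),
        v * ⁅(x : G), w⁆ = ⁅(x : G), w⁆ * v :=
      fun x v _ w hw => mem_center_iff.1 (hpc x.2 hw).2 v
    set Φ : ↥(P : Subgroup G) → (↥(P : Subgroup G) →* G) := fun x => commHom (x : G) P (hcm x)
    have hΦ : ∀ x, Nat.card (Φ x).range ∣ p := fun x => card_range_commHom_dvd hsf _ _ P.isPGroup' _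
    have hpair : ∀ x y, Φ x ≠ 1 → Φ y ≠ 1 → (Φ x).ker = (Φ y).ker ∨ (Φ x).range = (Φ y).range :=
      fun x y hx hy => ker_eq_or_range_eq (Φ x) (Φ y) (Φ (x * y)) (MulAut.conjNormal (y : G))
        (commHom_mul_eq (x : G) y (P : Subgroup G) _ _ (hcm (x * y))) (conjNormal_eq_self (y : G) _ _)
        (hΦ x) (hΦ y) (hΦ (x * y)) hx hy
    have hr : ∀ x y, Φ x ≠ 1 → Φ y ≠ 1 → (Φ x).range = (Φ y).range := by
      rcases ker_common_or_range_common Φ hpair with hk | hr
      · intro x y hx hy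
        exfalso
        refine hx (MonoidHom.ext fun z => ?_)
        by_cases hz : Φ z = 1
        · have h1 : ⁅(z : G), (x : G)⁆ = 1 := DFunLike.congr_fun hz x
          rw [commutatorElement_eq_one_iff_mul_comm] at h1
          exact commutatorElement_eq_one_iff_mul_comm.2 h1.symm
        · have h1 : z ∈ (Φ z).ker := commutatorElement_self (z : G)
          rw [hk z x hz hx] at h1
          exact h1
      · exact hr
    obtain ⟨D, hDp, hDc, hD⟩ : ∃ D : Subgroup G, Nat.card D ∣ p ∧ D ≤ center G ∧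
        ∀ x y : (P : Subgroup G), ⁅(x : G), (y : G)⁆ ∈ D := by
      by_cases hex : ∃ x, Φ x ≠ 1
      · obtain ⟨x₀, hx₀⟩ := hex
        refine ⟨(Φ x₀).range, hΦ x₀, ?_, fun x y => ?_⟩
        · rintro _ ⟨w, rfl⟩
          exact (hpc x₀.2 w.2).2
        · by_cases hx : Φ x = 1
          · have h1 : ⁅(x : G), (y : G)⁆ = 1 := DFunLike.congr_fun hx y
            rw [h1]
            exact one_mem _
          · exact hr x x₀ hx hx₀ ▸ ⟨y, rfl⟩
      · push Not at hex
        refine ⟨⊥, by simp, bot_le, fun x y => ?_⟩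
        rw [mem_bot]
        exact DFunLike.congr_fun (hex x) y
    refine (card_dvd_of_le ?_).trans hDp
    rw [_root_.commutator_def, commutator_le]
    intro a _ b _
    obtain ⟨x, hx, h, hh, rfl⟩ := hdec a
    obtain ⟨y, hy, k, hk, rfl⟩ := hdec b
    have e1 : h * y = y * h := hfix h hh y hy
    have e2 : k * x = x * k := hfix k hk x hx
    have e3 : h * k = k * h := hHab h hh k hk
    have e4 : ⁅x * h, y * k⁆ = ⁅x, y⁆ := by
      simp only [commutatorElement_def]
      calc x * h * (y * k) * (x * h)⁻¹ * (y * k)⁻¹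
          = x * (h * y) * k * h⁻¹ * x⁻¹ * k⁻¹ * y⁻¹ := by group
        _ = x * y * (h * k) * h⁻¹ * x⁻¹ * k⁻¹ * y⁻¹ := by rw [e1]; group
        _ = x * y * k * x⁻¹ * k⁻¹ * y⁻¹ := by rw [e3]; group
        _ = x * y * (x⁻¹ * (x * k) * x⁻¹) * k⁻¹ * y⁻¹ := by group
        _ = x * y * (x⁻¹ * (k * x) * x⁻¹) * k⁻¹ * y⁻¹ := by rw [e2]
        _ = _ := by group
    rw [e4]
    exact hD ⟨x, hx⟩ ⟨y, hy⟩
  push Not at hfix
  obtain ⟨h₀, hh₀, v₀, hv₀, hne⟩ := hfix
  set X := centralizer ({h₀} : Set G) with hX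
  have hXidx : X.relIndex (P : Subgroup G) = p := by
    obtain ⟨n, hn⟩ := IsPGroup.iff_card.1 P.isPGroup'
    obtain ⟨j, -, hj⟩ := (Nat.dvd_prime_pow hp.out).1 (hn ▸ relIndex_dvd_card X (P : Subgroup G))
    have h2 : p ^ j ∣ X.index := hj ▸ relIndex_dvd_index_normal_right X (P : Subgroup G)
    rcases lt_trichotomy j 1 with hj1 | hj1 | hj1
    · exfalso
      have : X.relIndex (P : Subgroup G) = 1 := by rw [hj, show j = 0 by omega, pow_zero]
      exact hne (mem_centralizer_single.1 (relIndex_eq_one.1 this hv₀)).symm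
    · rw [hj, hj1, pow_one]
    · exact absurd ((pow_dvd_pow p hj1).trans h2) (hsf.not_sq_dvd hp.out h₀)
  set Xs := X.subgroupOf (P : Subgroup G) with hXs
  have hXsidx : Xs.index = p := hXidx
  -- `P` is abelian
  have hPab : ∀ a ∈ (P : Subgroup G), ∀ b ∈ (P : Subgroup G), a * b = b * a := by
    have hXX : ∀ x ∈ (P : Subgroup G), x ∈ X → ∀ w ∈ (P : Subgroup G), w ∈ X → x * w = w * x := by
      intro x hx hxX w hw hwX
      have hxh : Commute x h₀ := mem_centralizer_single.1 hxX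
      set C := centralizer ({x * h₀} : Set G)
      obtain ⟨k, hk⟩ := IsPGroup.iff_orderOf.1 P.isPGroup' ⟨x, hx⟩
      rw [orderOf_mk] at hk
      have hh : h₀ ∈ zpowers (x * h₀) := by
        obtain ⟨m, hm⟩ := exists_pow_eq_self_of_coprime ((hpH h₀ hh₀).pow_right k).symm
        have h2 : h₀ ^ p ^ k ∈ zpowers (x * h₀) := by
          rw [show h₀ ^ p ^ k = (x * h₀) ^ p ^ k by
            rw [hxh.mul_pow, ← hk, pow_orderOf_eq_one, one_mul]]
          exact pow_mem (mem_zpowers _) _
        have h3 := pow_mem h2 m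
        rwa [hm] at h3
      have hcom : ∀ v ∈ C, v * h₀ = h₀ * v ∧ v * x = x * v := by
        intro v hv
        have h1 : Commute v (x * h₀) := mem_centralizer_single.1 hv
        obtain ⟨i, hi⟩ := hh
        have h2 : Commute v h₀ := hi ▸ h1.zpow_right i
        refine ⟨h2.eq, ?_⟩
        have h3 := h1.mul_right h2.inv_right
        rwa [mul_inv_cancel_right] at h3
      have hle : C ⊓ (P : Subgroup G) ≤ X ⊓ (P : Subgroup G) := fun v hv =>
        ⟨mem_centralizer_single.2 (hcom v hv.1).1, hv.2⟩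
      obtain ⟨n, hn⟩ := IsPGroup.iff_card.1 P.isPGroup'
      have hCdvd : C.relIndex (P : Subgroup G) ∣ p := by
        obtain ⟨j, -, hj⟩ := (Nat.dvd_prime_pow hp.out).1 (hn ▸ relIndex_dvd_card C (P : Subgroup G))
        have h2 : p ^ j ∣ C.index := hj ▸ relIndex_dvd_index_normal_right C (P : Subgroup G)
        rw [hj]
        rcases le_or_gt j 1 with hj1 | hj2
        · exact (pow_dvd_pow p hj1).trans (pow_one p).dvd
        · exact absurd ((pow_dvd_pow p hj2).trans h2) (hsf.not_sq_dvd hp.out _)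
      have e1 := Grp.relIndex_mul_card_inf (P : Subgroup G) C
      have e2 := Grp.relIndex_mul_card_inf (P : Subgroup G) X
      rw [inf_comm] at e1 e2
      rw [hXidx] at e2
      have heq : C ⊓ (P : Subgroup G) = X ⊓ (P : Subgroup G) := by
        refine eq_of_le_of_card_ge hle ?_
        have h3 : C.relIndex (P : Subgroup G) ≤ p := Nat.le_of_dvd hp.out.pos hCdvd
        by_contra hlt
        push Not at hlt
        nlinarith [hp.out.pos]
      have hwC : w ∈ C ⊓ (P : Subgroup G) := heq ▸ ⟨hwX, hw⟩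
      exact (hcom w hwC.1).2.symm
    obtain ⟨n₀, hn₀⟩ : ∃ n : (P : Subgroup G), n ∉ Xs := by
      by_contra hno
      push Not at hno
      rw [(eq_top_iff' Xs).2 hno, index_top] at hXsidx
      exact hp.out.ne_one hXsidx.symm
    haveI hXsn : Xs.Normal := by
      obtain ⟨n, hn⟩ := IsPGroup.iff_card.1 P.isPGroup'
      have hn0 : n ≠ 0 := fun e => by
        have h2 := Xs.index_dvd_card
        rw [hXsidx, hn, e, pow_zero] at h2
        exact hp.out.not_dvd_one h2
      exact normal_of_index_eq_minFac_card (by rw [hXsidx, hn, hp.out.pow_minFac hn0])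
    have hgen : ∀ u : (P : Subgroup G), ∃ i : ℤ, (n₀ ^ i)⁻¹ * u ∈ Xs := by
      intro u
      obtain ⟨i, hi⟩ := mem_zpowers_of_prime_card (G := (P : Subgroup G) ⧸ Xs) (p := p)
        (g := QuotientGroup.mk' Xs n₀) (g' := QuotientGroup.mk' Xs u)
        (by rw [← index_eq_card, hXsidx]) (fun e => hn₀ ((QuotientGroup.eq_one_iff n₀).1 e))
      exact ⟨i, QuotientGroup.eq.1 ((map_zpow (QuotientGroup.mk' Xs) n₀ i).trans hi)⟩
    have hn₁ : h₀ * (n₀ : G) * h₀⁻¹ ∈ (P : Subgroup G) := hPn.conj_mem _ n₀.2 h₀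
    have hcent : ∀ x : (P : Subgroup G), x ∈ Xs → Commute (x : G) (n₀ : G) := by
      intro x hx
      set c := ⁅(x : G), (n₀ : G)⁆ with hc
      have hcc : ∀ g, Commute g c := fun g => mem_center_iff.1 (hpc x.2 n₀.2).2 g
      by_contra hnc
      have hc1 : c ≠ 1 := fun e => hnc (commutatorElement_eq_one_iff_mul_comm.1 e)
      have hcX : c ∈ X := by
        have h1 := (pow_comm_mem P.isPGroup' Xs (by rw [hXsidx]) x n₀).2
        rw [hXs, mem_subgroupOf] at h1
        convert h1 using 1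
        rw [hc]
        simp [commutatorElement_def]
      obtain ⟨i, hi⟩ := hgen ⟨_, hn₁⟩
      set x' := (n₀ ^ i)⁻¹ * ⟨_, hn₁⟩ with hx'
      have hn1eq : h₀ * (n₀ : G) * h₀⁻¹ = (n₀ : G) ^ i * (x' : G) := by
        rw [hx']; simp [coe_zpow]
      have hxn : (x : G) * (n₀ : G) * (x : G)⁻¹ = c * (n₀ : G) := by
        rw [hc, commutatorElement_def]; group
      have hxX : (x : G) * h₀ = h₀ * (x : G) := mem_centralizer_single.1 hx
      have hxx' : (x : G) * (x' : G) = (x' : G) * (x : G) := hXX x x.2 hx x' x'.2 hi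
      have hxX' : (x : G)⁻¹ * h₀ = h₀ * (x : G)⁻¹ := (Commute.inv_left hxX).eq
      have e1 : (x : G) * (h₀ * (n₀ : G) * h₀⁻¹) * (x : G)⁻¹ = c * (h₀ * (n₀ : G) * h₀⁻¹) := by
        calc (x : G) * (h₀ * (n₀ : G) * h₀⁻¹) * (x : G)⁻¹
            = ((x : G) * h₀) * (n₀ : G) * ((x : G) * h₀)⁻¹ := by group
          _ = h₀ * ((x : G) * (n₀ : G) * (x : G)⁻¹) * h₀⁻¹ := by rw [hxX]; group
          _ = (h₀ * c) * (n₀ : G) * h₀⁻¹ := by rw [hxn]; group
          _ = _ := by rw [(hcc h₀).eq]; group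
      have e2 : (x : G) * (h₀ * (n₀ : G) * h₀⁻¹) * (x : G)⁻¹ = c ^ i * (h₀ * (n₀ : G) * h₀⁻¹) := by
        rw [hn1eq]
        calc (x : G) * ((n₀ : G) ^ i * (x' : G)) * (x : G)⁻¹
            = ((x : G) * (n₀ : G) * (x : G)⁻¹) ^ i * ((x : G) * (x' : G)) * (x : G)⁻¹ := by
              rw [conj_zpow]; group
          _ = (c * (n₀ : G)) ^ i * (x' : G) := by rw [hxn, hxx']; group
          _ = _ := by rw [((hcc (n₀ : G)).symm).mul_zpow]; group
      have hci : c ^ (i - 1) = 1 := by
        rw [zpow_sub_one, ← mul_left_injective _ (e1.symm.trans e2), mul_inv_cancel]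
      have hcp : c ^ p = 1 := by
        have hk : ∀ k : ℕ, (x : G) ^ k * (n₀ : G) * ((x : G) ^ k)⁻¹ = c ^ k * (n₀ : G) := by
          intro k
          induction k with
          | zero => simp
          | succ k ih =>
            calc (x : G) ^ (k + 1) * (n₀ : G) * ((x : G) ^ (k + 1))⁻¹
                = (x : G) * ((x : G) ^ k * (n₀ : G) * ((x : G) ^ k)⁻¹) * (x : G)⁻¹ := by
                  rw [pow_succ']; group
              _ = ((x : G) * c ^ k) * (n₀ : G) * (x : G)⁻¹ := by rw [ih]; group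
              _ = c ^ k * ((x : G) * (n₀ : G) * (x : G)⁻¹) := by
                  rw [((hcc (x : G)).pow_right k).eq]; group
              _ = _ := by rw [hxn, pow_succ]; group
        have h1 := hk p
        rw [← mem_center_iff.1 (hpc x.2 x.2).1 (n₀ : G), mul_inv_cancel_right, eq_comm,
          mul_eq_right] at h1
        exact h1
      have hord : orderOf c = p := orderOf_eq_prime hcp hc1
      obtain ⟨j, hj⟩ : (p : ℤ) ∣ i - 1 := hord ▸ orderOf_dvd_iff_zpow_eq_one.2 hci
      have hnp : n₀ ^ p ∈ Xs := by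
        have h2 := Xs.pow_index_mem n₀
        rwa [hXsidx] at h2
      have hd : n₀⁻¹ * ⟨_, hn₁⟩ ∈ Xs := by
        have h2 : n₀⁻¹ * ⟨_, hn₁⟩ = (n₀ ^ p) ^ j * x' := by
          rw [hx', ← zpow_natCast, ← zpow_mul, ← hj, zpow_sub_one, ← mul_assoc]
          group
        rw [h2]
        exact Xs.mul_mem (Xs.zpow_mem hnp j) hi
      have hd' : h₀ * (n₀ : G) * h₀⁻¹ * (n₀ : G)⁻¹ ∈ X := by
        have h3 := hXsn.conj_mem _ hd n₀
        rw [hXs, mem_subgroupOf] at h3
        simpa [mul_assoc] using h3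
      exact hn₀ (mem_centralizer_single.2 (mul_inv_eq_iff_eq_mul.1
        (conj_eq_self_of_step P.isPGroup' (hpH h₀ hh₀) ((P : Subgroup G).mul_mem hn₁ (inv_mem n₀.2))
          (mem_centralizer_single.1 hd').symm)).symm)
    intro a ha b hb
    obtain ⟨i, hi⟩ := hgen ⟨a, ha⟩
    obtain ⟨j, hj⟩ := hgen ⟨b, hb⟩
    set x := (n₀ ^ i)⁻¹ * ⟨a, ha⟩ with hxdef
    set y := (n₀ ^ j)⁻¹ * ⟨b, hb⟩ with hydef
    have ea : a = (n₀ : G) ^ i * (x : G) := by rw [hxdef]; simp [coe_zpow]
    have eb : b = (n₀ : G) ^ j * (y : G) := by rw [hydef]; simp [coe_zpow]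
    have hxy : Commute (x : G) (y : G) := hXX x x.2 hi y y.2 hj
    rw [ea, eb]
    exact (((Commute.refl (n₀ : G)).zpow_zpow i j).mul_right ((hcent y hj).symm.zpow_left i)).mul_left
      (((hcent x hi).zpow_right j).mul_right hxy)
  have hcm : ∀ h : G, ∀ v ∈ (P : Subgroup G), ∀ w ∈ (P : Subgroup G), v * ⁅h, w⁆ = ⁅h, w⁆ * v := by
    intro h v hv w hw
    exact hPab v hv _ ((P : Subgroup G).mul_mem (hPn.conj_mem w hw h) (inv_mem hw))
  set Φ : H → ((P : Subgroup G) →* G) := fun h => commHom (h : G) P (hcm h)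
  have hΦ : ∀ h, Nat.card (Φ h).range ∣ p := fun h => card_range_commHom_dvd hsf _ _ P.isPGroup' _
  have hpair : ∀ h k, Φ h ≠ 1 → Φ k ≠ 1 → (Φ h).ker = (Φ k).ker ∨ (Φ h).range = (Φ k).range :=
    fun h k hh hk => ker_eq_or_range_eq (Φ h) (Φ k) (Φ (h * k)) (MulAut.conjNormal (k : G))
      (commHom_mul_eq (h : G) k (P : Subgroup G) _ _ (hcm _)) (conjNormal_eq_self (k : G) _ _)
      (hΦ h) (hΦ k) (hΦ (h * k)) hh hk
  have hr : ∀ h k, Φ h ≠ 1 → Φ k ≠ 1 → (Φ h).range = (Φ k).range := by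
    rcases ker_common_or_range_common Φ hpair with hk | hr
    · intro h k hh hk1
      by_contra hne'
      have hinv : ∀ d ∈ (Φ k).range, ⁅(h : G), d⁆ ∈ (Φ k).range := by
        rintro d ⟨w, rfl⟩
        rw [commutatorElement_def]
        refine mul_mem ⟨MulAut.conjNormal (h : G) w, ?_⟩ (inv_mem ⟨w, rfl⟩)
        have e3 : (k : G) * (h : G) = (h : G) * (k : G) := hHab k k.2 h h.2
        show ⁅(k : G), ((MulAut.conjNormal (h : G) w : (P : Subgroup G)) : G)⁆ = (h : G) * ⁅(k : G), (w : G)⁆ * (h : G)⁻¹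
        rw [MulAut.conjNormal_apply, conjugate_commutatorElement,
          show (h : G) * (k : G) * (h : G)⁻¹ = (k : G) by rw [← e3, mul_inv_cancel_right]]
      obtain ⟨w, hw⟩ : ∃ w, Φ k w ≠ 1 := by
        by_contra hno
        push Not at hno
        exact hk1 (MonoidHom.ext hno)
      have hwP : Φ k w ∈ (P : Subgroup G) :=
        (P : Subgroup G).mul_mem (hPn.conj_mem _ w.2 (k : G)) (inv_mem w.2)
      have hin : (⟨Φ k w, hwP⟩ : (P : Subgroup G)) ∈ (Φ h).ker := by
        have h1 : Φ h ⟨Φ k w, hwP⟩ ∈ (Φ k).range ⊓ (Φ h).range := ⟨hinv _ ⟨w, rfl⟩, ⟨_, rfl⟩⟩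
        have h2 : (Φ k).range ⊓ (Φ h).range = ⊥ := by
          have h4 : Nat.card ↥((Φ k).range ⊓ (Φ h).range) ∣ p :=
            (card_dvd_of_le inf_le_left).trans (hΦ k)
          rcases (Nat.dvd_prime hp.out).1 h4 with h3 | h3
          · exact card_eq_one.1 h3
          · exfalso
            refine hne' ?_
            have e1 : (Φ k).range ⊓ (Φ h).range = (Φ k).range :=
              eq_of_le_of_card_ge inf_le_left (h3.symm ▸ Nat.le_of_dvd hp.out.pos (hΦ k))
            have e2 : (Φ k).range ⊓ (Φ h).range = (Φ h).range :=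
              eq_of_le_of_card_ge inf_le_right (h3.symm ▸ Nat.le_of_dvd hp.out.pos (hΦ h))
            exact e2.symm.trans e1
        rwa [h2, mem_bot] at h1
      rw [hk h k hh hk1] at hin
      have hin' : Commute (k : G) (Φ k w) := commutatorElement_eq_one_iff_mul_comm.1 hin
      refine hw ?_
      show (k : G) * (w : G) * (k : G)⁻¹ * (w : G)⁻¹ = 1
      rw [conj_eq_self_of_step P.isPGroup' (hpH k k.2) hwP hin', mul_inv_cancel]
    · exact hr
  have hh1 : Φ ⟨h₀, hh₀⟩ ≠ 1 := fun e =>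
    hne (commutatorElement_eq_one_iff_mul_comm.1 (DFunLike.congr_fun e ⟨v₀, hv₀⟩))
  set D := (Φ ⟨h₀, hh₀⟩).range with hD
  have hDP : D ≤ (P : Subgroup G) := by
    rintro _ ⟨w, rfl⟩
    exact (P : Subgroup G).mul_mem (hPn.conj_mem _ w.2 h₀) (inv_mem w.2)
  haveI hDn : D.Normal := by
    refine ⟨fun d hd g => ?_⟩
    obtain ⟨x, hx, h, hh, rfl⟩ := hdec g
    obtain ⟨w, rfl⟩ := hd
    have e3 : h * h₀ = h₀ * h := hHab h hh h₀ hh₀
    have h1 : h * Φ ⟨h₀, hh₀⟩ w * h⁻¹ ∈ D := by
      refine ⟨MulAut.conjNormal h w, ?_⟩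
      show ⁅h₀, ((MulAut.conjNormal h w : (P : Subgroup G)) : G)⁆ = h * ⁅h₀, (w : G)⁆ * h⁻¹
      rw [MulAut.conjNormal_apply, conjugate_commutatorElement,
        show h * h₀ * h⁻¹ = h₀ by rw [e3, mul_inv_cancel_right]]
    rw [show x * h * Φ ⟨h₀, hh₀⟩ w * (x * h)⁻¹ = x * (h * Φ ⟨h₀, hh₀⟩ w * h⁻¹) * x⁻¹ by group,
      hPab x hx _ (hDP h1), mul_inv_cancel_right]
    exact h1
  refine (card_dvd_of_le ?_).trans (hΦ ⟨h₀, hh₀⟩)
  set f := QuotientGroup.mk' D
  have hhx : ∀ x ∈ (P : Subgroup G), ∀ h ∈ H, Commute (f h) (f x) := by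
    intro x hx h hh
    have hmem : ⁅h, x⁆ ∈ D := by
      by_cases e : Φ ⟨h, hh⟩ = 1
      · have h1 : ⁅h, x⁆ = 1 := DFunLike.congr_fun e ⟨x, hx⟩
        rw [h1]; exact one_mem _
      · rw [hD, ← hr _ _ e hh1]
        exact ⟨⟨x, hx⟩, rfl⟩
    rw [Commute, SemiconjBy, ← commutatorElement_eq_one_iff_mul_comm, ← map_commutatorElement]
    exact (QuotientGroup.eq_one_iff _).2 hmem
  rw [_root_.commutator_def, commutator_le]
  intro a _ b _
  obtain ⟨x, hx, h, hh, rfl⟩ := hdec a
  obtain ⟨y, hy, k, hk, rfl⟩ := hdec b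
  rw [← QuotientGroup.eq_one_iff]
  show f ⁅x * h, y * k⁆ = 1
  rw [map_commutatorElement, commutatorElement_eq_one_iff_mul_comm, map_mul, map_mul]
  exact ((Commute.map (show Commute x y from hPab x hx y hy) f).mul_right (hhx x hx k hk).symm).mul_left
    ((hhx y hy h hh).mul_right (Commute.map (show Commute h k from hHab h hh k hk) f))

/-- Square-free class sizes: `p²` does not divide the order of the derived subgroup. -/
theorem SFClasses.not_sq_dvd_commutator : ∀ (n : ℕ) {G : Type u} [Group G] [Finite G], Nat.card G = n →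
    SFClasses G → ∀ p : ℕ, p.Prime → ¬ p ^ 2 ∣ Nat.card (commutator G) := by
  intro n
  induction n using Nat.strong_induction_on with
  | _ n ih =>
  intro G _ _ hn h p hp hd
  haveI := Fact.mk hp
  have hss := SFClasses.isSupersolvable (Nat.card G) rfl h
  by_cases hex : ∃ C : Subgroup G, C.Normal ∧ (Nat.card C).Prime ∧ Nat.card C ≠ p
  · obtain ⟨C, hCn, hCp, hne⟩ := hex
    haveI := hCn
    set f := QuotientGroup.mk' C with hf
    have hCne : C ≠ ⊥ := fun e => hCp.ne_one (by rw [e, card_bot])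
    have hmap : (commutator G).map f = commutator (G ⧸ C) := by
      rw [commutator_def, commutator_def, map_commutator,
        map_top_of_surjective f (QuotientGroup.mk'_surjective C)]
    have h1 : Nat.card ↥(commutator G ⊓ C) * Nat.card (commutator (G ⧸ C)) = Nat.card (commutator G) := by
      rw [← hmap, ← relIndex_ker, hf, QuotientGroup.ker_mk']
      exact Grp.relIndex_mul_card_inf _ _
    have h2 : Nat.Coprime (p ^ 2) (Nat.card ↥(commutator G ⊓ C)) :=
      Nat.Coprime.coprime_dvd_right (card_dvd_of_le inf_le_right)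
        (((Nat.coprime_primes hp hCp).2 (Ne.symm hne)).pow_left 2)
    exact ih _ (hn ▸ Grp.card_quotient_lt hCne) rfl (h.quotient C) p hp
      (h2.dvd_of_dvd_mul_left (h1.symm ▸ hd))
  push Not at hex
  have hnil : Group.IsNilpotent (commutator G) := Cfsg.Agent.S0526.result hss
  have hpg : IsPGroup p (commutator G) := by
    rw [IsPGroup.iff_card]
    refine ⟨(Nat.card (commutator G)).primeFactorsList.length,
      Nat.eq_prime_pow_of_unique_prime_dvd Nat.card_pos.ne' ?_⟩
    intro r hr hrd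
    haveI := Fact.mk hr
    obtain ⟨R⟩ : Nonempty (Sylow r (commutator G)) := inferInstance
    haveI : (R : Subgroup (commutator G)).Characteristic :=
      Sylow.characteristic_of_normal R (by haveI := hnil; infer_instance)
    set R' := (R : Subgroup (commutator G)).map (commutator G).subtype
    have hR'p : IsPGroup r R' := R.isPGroup'.map _
    have hR'ne : R' ≠ ⊥ := fun e => by
      have h1 : r ∣ Nat.card (R : Subgroup (commutator G)) := R.dvd_card_of_dvd_card hrd
      rw [Nat.card_congr ((R : Subgroup (commutator G)).equivMapOfInjective _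
        (commutator G).subtype_injective).toEquiv] at h1
      have h2 : Nat.card R' = 1 := by rw [e, card_bot]
      rw [h2] at h1
      exact hr.not_dvd_one h1
    obtain ⟨C, hCn, hCR, hCp⟩ := Grp.exists_prime_normal_le hss R' hR'ne
    obtain ⟨k, hk⟩ := IsPGroup.iff_card.1 hR'p
    rw [← hex C hCn hCp]
    exact ((Nat.prime_dvd_prime_iff_eq hCp hr).1 (hCp.dvd_of_dvd_pow (hk ▸ card_dvd_of_le hCR))).symm
  have h1 := hd.trans (card_commutator_dvd_of_isPGroup h hpg)
  have h2 := Nat.le_of_dvd hp.pos h1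
  nlinarith [hp.two_le]

end Cfsg.Agent.Transfer.SquareFree
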